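import Groth.Agent.ValCrit6.DVREss
import Groth.Agent.Proj16.DVRCrit

/-!
# Valuative criteria with DVRs essentially of finite type over an excellent base
-/

set_option autoImplicit false

universe u

open CategoryTheory CategoryTheory.Limits AlgebraicGeometry IsLocalRing

namespace Groth.Agent.ValCrit6

/-- Existence of lifts for squares whose DVR is essentially of finite type over `S`. -/
def EssExistence {X Y S : Scheme.{u}} (f : X ⟶ Y) (g : Y ⟶ S) : Prop :=
  ∀ sq : ValuativeCommSq f, IsDiscreteValuationRing sq.R →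
    (∃ (U : S.affineOpens) (φ : Γ(S, U.1) ⟶ CommRingCat.of sq.R),
      Spec.map φ ≫ U.2.fromSpec = sq.i₂ ≫ g ∧ φ.hom.EssFiniteType) →
    sq.commSq.HasLift

variable {X Y S : Scheme.{u}} {f : X ⟶ Y} {g : Y ⟶ S}

theorem EssExistence.pullback_snd (H : EssExistence f g) {Y' : Scheme.{u}} (r : Y' ⟶ Y) :
    EssExistence (pullback.snd f r) (r ≫ g) := by
  intro sq hR hφ
  have w : CommSq (sq.i₁ ≫ pullback.fst f r) (Spec.map (CommRingCat.ofHom (algebraMap sq.R sq.K))) f
      (sq.i₂ ≫ r) := ⟨by rw [Category.assoc, pullback.condition, reassoc_of% sq.commSq.w]⟩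
  obtain ⟨U, φ, hφ, hφ'⟩ := hφ
  obtain ⟨⟨⟨l, hl₁, hl₂⟩⟩⟩ := H { R := sq.R, K := sq.K, i₁ := _, i₂ := _, commSq := w } hR
    ⟨U, φ, by rw [hφ, Category.assoc], hφ'⟩
  dsimp only at hl₁ hl₂
  refine ⟨⟨⟨pullback.lift l sq.i₂ hl₂, ?_, pullback.lift_snd _ _ _⟩⟩⟩
  apply pullback.hom_ext
  · rw [Category.assoc, pullback.lift_fst, hl₁]
  · rw [Category.assoc, pullback.lift_snd, sq.commSq.w]

theorem EssExistence.specializingMap (hS : ∀ U : S.affineOpens, EGA4.IsExcellent Γ(S, U.1))
    [LocallyOfFiniteType f] [LocallyOfFiniteType g] [IsLocallyNoetherian Y] (H : EssExistence f g) :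
    SpecializingMap f := by
  intro x y hsp
  rcases eq_or_ne y (f x) with rfl | hne
  · exact ⟨x, specializes_refl x, rfl⟩
  obtain ⟨A₀, h, hA₀, h1, h2⟩ := Proj16.exists_dvr_path (p := f) hsp hne
  haveI := hA₀
  obtain ⟨U, hU, hsU, -⟩ := exists_isAffineOpen_mem_and_subset (x := g y) (U := ⊤) trivial
  obtain ⟨V, hV, hyV, hVU⟩ := exists_isAffineOpen_mem_and_subset (x := y) (U := g ⁻¹ᵁ U) hsU
  have hrange : Set.range h ⊆ V := by
    rintro _ ⟨p, rfl⟩
    exact ((IsLocalRing.specializes_closedPoint p).map h.continuous).mem_open V.2 (h1 ▸ hyV)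
  let η₀ : Γ(Y, V) ⟶ CommRingCat.of A₀ :=
    Spec.preimage (IsOpenImmersion.lift hV.fromSpec h (by rwa [hV.range_fromSpec]))
  have hη₀ : Spec.map η₀ ≫ hV.fromSpec = h := by
    rw [Spec.map_preimage, IsOpenImmersion.lift_fac]
  -- the composite into the residue field
  have hχ : η₀ ≫ CommRingCat.ofHom A₀.subtype = Y.presheaf.germ V y hyV ≫ Proj16.specMapResidue (p := f) hsp := by
    refine Spec.map_injective ((cancel_mono hV.fromSpec).1 ?_)
    rw [Spec.map_comp, Category.assoc, hη₀, h2, Spec.map_comp, Category.assoc]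
    rw [← Proj16.specMapResidue_fromSpecStalk hsp, ← hV.fromSpecStalk_eq_fromSpecStalk hyV]
    rfl
  letI : Algebra Γ(Y, V) (X.residueField x) := (η₀ ≫ CommRingCat.ofHom A₀.subtype).hom.toAlgebra
  haveI : Algebra.EssFiniteType Γ(Y, V) (X.residueField x) := by
    rw [← RingHom.essFiniteType_algebraMap, RingHom.algebraMap_toAlgebra, hχ, CommRingCat.hom_comp]
    refine RingHom.EssFiniteType.comp ?_ (Proj16.essFiniteType_specMapResidue hsp)
    letI : Algebra Γ(Y, V) (Y.presheaf.stalk y) := (Y.presheaf.germ V y hyV).hom.toAlgebra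
    haveI : IsLocalization.AtPrime (Y.presheaf.stalk y) (hV.primeIdealOf ⟨y, hyV⟩).asIdeal :=
      hV.isLocalization_stalk ⟨y, hyV⟩
    exact RingHom.essFiniteType_algebraMap.2
      (Algebra.EssFiniteType.of_isLocalization _ (hV.primeIdealOf ⟨y, hyV⟩).asIdeal.primeCompl)
  have hle : V ≤ g ⁻¹ᵁ U := hVU
  have hft : (g.appLE U V hle).hom.FiniteType := g.finiteType_appLE hU hV hle
  have hexc : EGA4.IsExcellent Γ(Y, V) := by
    letI := (g.appLE U V hle).hom.toAlgebra
    haveI : Algebra.FiniteType Γ(S, U) Γ(Y, V) := hft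
    exact CplFib6.isExcellent_of_finiteType (hS ⟨U, hU⟩) Γ(Y, V)
  obtain ⟨R, _, _, hR, _, η, hfrac, hηL, hηess, hηmax⟩ :=
    exists_dvr_essFiniteType Γ(Y, V) hexc (X.residueField x) A₀ fun a => (η₀.hom a).2
  haveI := hR
  let i₂ : Spec (CommRingCat.of R) ⟶ Y := Spec.map (CommRingCat.ofHom η) ≫ hV.fromSpec
  have hcl : i₂ (closedPoint R) = y := by
    rw [← h1, ← hη₀]
    simp only [i₂, Scheme.Hom.comp_apply]
    congr 1
    refine PrimeSpectrum.ext (Ideal.ext fun a => ?_)
    exact hηmax a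
  have w : CommSq (X.fromSpecResidueField x)
      (Spec.map (CommRingCat.ofHom (algebraMap R (X.residueField x)))) f i₂ := ⟨by
    rw [← h2, ← hη₀, ← Spec.map_comp_assoc, show i₂ = Spec.map (CommRingCat.ofHom η) ≫ hV.fromSpec from rfl,
      ← Spec.map_comp_assoc]
    congr 2
    exact CommRingCat.hom_ext hηL.symm⟩
  obtain ⟨⟨⟨l, hl₁, hl₂⟩⟩⟩ := H { R := R, K := X.residueField x, i₁ := _, i₂ := _, commSq := w } hR
    ⟨⟨U, hU⟩, g.appLE U V hle ≫ CommRingCat.ofHom η, by
      rw [Spec.map_comp, Category.assoc, IsAffineOpen.SpecMap_appLE_fromSpec g hU hV hle]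
      exact (Category.assoc _ _ _).symm, by
      rw [CommRingCat.hom_comp]
      exact (RingHom.FiniteType.essFiniteType hft).comp hηess⟩
  dsimp only at hl₁ hl₂
  refine ⟨l (closedPoint R), ?_, ?_⟩
  · simp_rw [← Scheme.fromSpecResidueField_apply x (closedPoint (X.residueField x)), ← hl₁]
    exact (IsLocalRing.specializes_closedPoint _).map l.continuous
  · rw [← Scheme.Hom.comp_apply, hl₂, hcl]

/-- Existence for DVRs essentially of finite type over an excellent base gives universal closedness. -/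
theorem EssExistence.universallyClosed (hS : ∀ U : S.affineOpens, EGA4.IsExcellent Γ(S, U.1))
    [LocallyOfFiniteType f] [LocallyOfFiniteType g] [QuasiCompact f] (H : EssExistence f g) :
    UniversallyClosed f := by
  haveI : IsLocallyNoetherian S := ⟨fun U => (hS U).1⟩
  haveI : IsLocallyNoetherian Y := LocallyOfFiniteType.isLocallyNoetherian g
  refine Proj16.universallyClosed_of_affineSpace f fun n => ?_
  haveI : IsLocallyNoetherian 𝔸(ULift.{u} (Fin n); Y) :=
    LocallyOfFiniteType.isLocallyNoetherian (𝔸(ULift.{u} (Fin n); Y) ↘ Y)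
  exact (isClosedMap_iff_specializingMap _).mpr
    ((H.pullback_snd (𝔸(ULift.{u} (Fin n); Y) ↘ Y)).specializingMap hS)

end Groth.Agent.ValCrit6
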