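import Mathlib
import Groth.Agent.S9132
import Groth.Agent.CplFib6.Excellent
import Groth.Agent.CompleteNagata.Global

/-!
# Discrete valuation rings essentially of finite type over an excellent ring
-/

set_option autoImplicit false
set_option linter.style.haveILetI false

universe u

open IsLocalRing

namespace Groth.Agent.ValCrit6

/-- In a one-dimensional excellent local domain there is a dominating DVR which is essentially of
finite type, inside the fraction field. -/
theorem exists_dvr_of_dim_one (R : Type u) [CommRing R] [IsDomain R] [IsLocalRing R]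
    (hexc : EGA4.IsExcellent R) (hdim : ringKrullDim R = 1) (K : Type u) [Field K] [Algebra R K]
    [IsFractionRing R K] :
    ∃ (V : Type u) (_ : CommRing V) (_ : IsDomain V) (_ : IsDiscreteValuationRing V) (_ : Algebra R V)
      (_ : Algebra V K) (_ : IsScalarTower R V K),
      IsFractionRing V K ∧ Algebra.EssFiniteType R V ∧ IsLocalHom (algebraMap R V) := by
  haveI : IsNoetherianRing R := hexc.1
  have hnag := CompleteNagata.isNagata_of_isQuasiExcellent R ⟨hexc.1, hexc.2.2.1, hexc.2.2.2⟩
  -- finiteness of the normalisation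
  have hfin : Module.Finite R (integralClosure R K) := by
    have h2 := hnag.2 (⊥ : Ideal R)
    let e : R ≃+* R ⧸ (⊥ : Ideal R) := (RingEquiv.quotientBot R).symm
    letI : Algebra (R ⧸ (⊥ : Ideal R)) K := ((algebraMap R K).comp e.symm.toRingHom).toAlgebra
    have halg : ∀ a : R, algebraMap (R ⧸ (⊥ : Ideal R)) K (e a) = algebraMap R K a := fun a => by
      show algebraMap R K (e.symm (e a)) = _
      rw [RingEquiv.symm_apply_apply]
    haveI : FaithfulSMul (R ⧸ (⊥ : Ideal R)) K := (faithfulSMul_iff_algebraMap_injective _ _).2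
      ((IsFractionRing.injective R K).comp e.symm.injective)
    haveI : IsFractionRing (R ⧸ (⊥ : Ideal R)) K := IsFractionRing.of_field _ _ fun z => by
      obtain ⟨a, b, -, rfl⟩ := IsFractionRing.div_surjective (A := R) z
      exact ⟨e a, e b, by rw [halg, halg]⟩
    letI : Algebra (FractionRing (R ⧸ (⊥ : Ideal R))) K :=
      (FractionRing.algEquiv (R ⧸ (⊥ : Ideal R)) K).toRingEquiv.toRingHom.toAlgebra
    haveI : IsScalarTower (R ⧸ (⊥ : Ideal R)) (FractionRing (R ⧸ (⊥ : Ideal R))) K :=
      IsScalarTower.of_algebraMap_eq fun x => ((FractionRing.algEquiv (R ⧸ (⊥ : Ideal R)) K).commutes x).symm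
    haveI : FiniteDimensional (FractionRing (R ⧸ (⊥ : Ideal R))) K :=
      Module.Finite.of_surjective
        (Algebra.linearMap (FractionRing (R ⧸ (⊥ : Ideal R))) K)
        (FractionRing.algEquiv (R ⧸ (⊥ : Ideal R)) K).surjective
    haveI h3 := h2 K inferInstance
    haveI : IsScalarTower R (R ⧸ (⊥ : Ideal R)) K := IsScalarTower.of_algebraMap_eq fun a => (halg a).symm
    have hmem : ∀ x : K, IsIntegral (R ⧸ (⊥ : Ideal R)) x → IsIntegral R x := fun x hx =>
      isIntegral_trans (R := R) x hx
    let f : integralClosure (R ⧸ (⊥ : Ideal R)) K →ₗ[R] integralClosure R K :=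
      { toFun := fun x => ⟨x, hmem x x.2⟩
        map_add' := fun _ _ => rfl
        map_smul' := fun r x => Subtype.ext (by
          show (((r • x : integralClosure (R ⧸ (⊥ : Ideal R)) K)) : K) = r • (x : K)
          rfl) }
    haveI : Module.Finite R (R ⧸ (⊥ : Ideal R)) := inferInstance
    haveI : Module.Finite R (integralClosure (R ⧸ (⊥ : Ideal R)) K) := Module.Finite.trans (R ⧸ (⊥ : Ideal R)) _
    exact Module.Finite.of_surjective f fun x => ⟨⟨x, x.2.tower_top⟩, rfl⟩
  set N := integralClosure R K
  haveI : IsFractionRing N K := IsFractionRing.of_field _ _ fun z => by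
    obtain ⟨a, b, -, rfl⟩ := IsFractionRing.div_surjective (A := R) z
    exact ⟨algebraMap R N a, algebraMap R N b, rfl⟩
  haveI : IsIntegrallyClosed N := (isIntegrallyClosed_iff K).2 fun {x} hx =>
    ⟨⟨x, isIntegral_trans (R := R) x hx⟩, rfl⟩
  haveI : IsNoetherianRing N := IsNoetherianRing.of_finite R N
  haveI : FaithfulSMul R N := (faithfulSMul_iff_algebraMap_injective R N).2 fun a b h =>
    IsFractionRing.injective R K (congrArg Subtype.val h)
  haveI : Ring.KrullDimLE 1 R := Ring.krullDimLE_iff.2 hdim.le
  haveI : Ring.DimensionLEOne N := by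
    refine ⟨fun {P} hP hPp => ?_⟩
    haveI := hPp
    have h1 : P.comap (algebraMap R N) ≠ ⊥ := fun h => hP (Ideal.eq_bot_of_comap_eq_bot h)
    have h2 : (P.comap (algebraMap R N)).IsMaximal :=
      Ideal.IsPrime.isMaximal_of_ne_bot (inferInstance : (P.comap (algebraMap R N)).IsPrime) h1
    exact Ideal.isMaximal_of_isIntegral_of_isMaximal_comap P h2
  haveI : IsDedekindRing N := {}
  haveI : IsDedekindDomain N := {}
  -- a maximal ideal of the normalisation
  obtain ⟨P, hP, hPcomap⟩ := Ideal.exists_maximal_ideal_liesOver_of_isIntegral (R := R) (S := N)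
    (maximalIdeal R)
  have hPne : P ≠ ⊥ := by
    intro h0
    have h1 := hPcomap.over
    rw [h0, Ideal.under_bot] at h1
    have h4 := ringKrullDim_eq_zero_of_isField (IsLocalRing.isField_iff_maximalIdeal_eq.2 h1)
    rw [hdim] at h4
    exact one_ne_zero h4
  haveI : IsDiscreteValuationRing (Localization.AtPrime P) :=
    IsLocalization.AtPrime.isDiscreteValuationRing_of_dedekind_domain N hPne _
  letI : Algebra (Localization.AtPrime P) K :=
    (IsLocalization.lift (M := P.primeCompl) (g := algebraMap N K) fun y =>
      IsUnit.mk0 _ ((map_ne_zero_iff _ (IsFractionRing.injective N K)).2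
        fun h => y.2 (h ▸ P.zero_mem))).toAlgebra
  haveI : IsScalarTower N (Localization.AtPrime P) K := IsScalarTower.of_algebraMap_eq fun x =>
    (IsLocalization.lift_eq (M := P.primeCompl) (g := algebraMap N K) _ x).symm
  haveI : IsFractionRing (Localization.AtPrime P) K :=
    IsFractionRing.isFractionRing_of_isDomain_of_isLocalization P.primeCompl _ K
  haveI : IsScalarTower R (Localization.AtPrime P) K := IsScalarTower.of_algebraMap_eq fun x => by
    rw [IsScalarTower.algebraMap_apply R N (Localization.AtPrime P), ← IsScalarTower.algebraMap_apply N]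
    rfl
  haveI : Algebra.EssFiniteType N (Localization.AtPrime P) :=
    Algebra.EssFiniteType.of_isLocalization _ P.primeCompl
  refine ⟨Localization.AtPrime P, inferInstance, inferInstance, inferInstance, inferInstance, inferInstance,
    inferInstance, inferInstance, Algebra.EssFiniteType.comp R N _, ⟨fun a ha => ?_⟩⟩
  by_contra hn
  have h1 : algebraMap R N a ∈ P := by
    have h3 : a ∈ maximalIdeal R := hn
    rw [hPcomap.over] at h3
    exact h3
  rw [IsScalarTower.algebraMap_apply R N (Localization.AtPrime P),
    IsLocalization.AtPrime.isUnit_to_map_iff _ P] at ha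
  exact ha h1

end Groth.Agent.ValCrit6
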