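import Groth.Agent.ValCrit6.DVRAlg

/-!
# Replacing a DVR by one essentially of finite type
-/

set_option autoImplicit false
set_option linter.style.haveILetI false

universe u

open IsLocalRing

namespace Groth.Agent.ValCrit6

/-- The case of an excellent local domain. -/
theorem exists_dvr_of_local (O : Type u) [CommRing O] [IsDomain O] [IsLocalRing O] [IsNoetherianRing O]
    (hOexc : EGA4.IsExcellent O) (hOf : ¬ IsField O) (L : Type u) [Field L] [Algebra O L]
    [IsFractionRing O L] :
    ∃ (V : Type u) (_ : CommRing V) (_ : IsDomain V) (_ : IsDiscreteValuationRing V) (_ : Algebra O V)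
      (_ : Algebra V L) (_ : IsScalarTower O V L),
      IsFractionRing V L ∧ Algebra.EssFiniteType O V ∧ IsLocalHom (algebraMap O V) := by
  obtain ⟨R', _, hR'N, hR'dim, hR'loc, hR'ess⟩ := S9132.result O hOf
  haveI := hR'ess
  have hR'exc : EGA4.IsExcellent R' :=
    CplFib6.isExcellent_localization
      (CplFib6.isExcellent_of_finiteType hOexc (Algebra.EssFiniteType.subalgebra O R'))
      (Algebra.EssFiniteType.submonoid O R') R'
  let e := FractionRing.algEquiv O L
  letI : Algebra R' L := (e.toRingEquiv.toRingHom.comp R'.val.toRingHom).toAlgebra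
  haveI : FaithfulSMul R' L := (faithfulSMul_iff_algebraMap_injective _ _).2
    (e.injective.comp Subtype.val_injective)
  have hR'O : ∀ o : O, algebraMap R' L (algebraMap O R' o) = algebraMap O L o := fun o => e.commutes o
  haveI : IsFractionRing R' L := IsFractionRing.of_field _ _ fun z => by
    obtain ⟨a, b, -, rfl⟩ := IsFractionRing.div_surjective (A := O) z
    exact ⟨algebraMap O R' a, algebraMap O R' b, by rw [hR'O, hR'O]⟩
  obtain ⟨W, _, _, _, _, _, _, hWfrac, hWess, hWloc⟩ := exists_dvr_of_dim_one R' hR'exc hR'dim L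
  letI : Algebra O W := ((algebraMap R' W).comp (algebraMap O R')).toAlgebra
  haveI : IsScalarTower O R' W := IsScalarTower.of_algebraMap_eq' rfl
  haveI : IsScalarTower O W L := IsScalarTower.of_algebraMap_eq fun o => by
    rw [RingHom.algebraMap_toAlgebra, RingHom.comp_apply, ← IsScalarTower.algebraMap_apply, hR'O]
  refine ⟨W, inferInstance, inferInstance, inferInstance, inferInstance, inferInstance, inferInstance, hWfrac,
    RingHom.essFiniteType_algebraMap.1 ((RingHom.essFiniteType_algebraMap.2 hR'ess).comp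
      (RingHom.essFiniteType_algebraMap.2 hWess)), ?_⟩
  haveI := hR'loc
  haveI := hWloc
  exact RingHom.isLocalHom_comp (algebraMap R' W) (algebraMap O R')

/-- If `L` is essentially of finite type over an excellent ring `A` and a DVR of `L` contains the
image of `A`, some DVR with fraction field `L` is essentially of finite type over `A` and has the
same centre. -/
theorem exists_dvr_essFiniteType (A : Type u) [CommRing A] (hA : EGA4.IsExcellent A) (L : Type u) [Field L]
    [Algebra A L] [Algebra.EssFiniteType A L] (V₀ : ValuationSubring L) [IsDiscreteValuationRing V₀]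
    (hV₀ : ∀ a : A, algebraMap A L a ∈ V₀) :
    ∃ (R : Type u) (_ : CommRing R) (_ : IsDomain R) (_ : IsDiscreteValuationRing R) (_ : Algebra R L)
      (η : A →+* R), IsFractionRing R L ∧ (algebraMap R L).comp η = algebraMap A L ∧ η.EssFiniteType ∧
      ∀ a, η a ∈ maximalIdeal R ↔ (⟨_, hV₀ a⟩ : V₀) ∈ maximalIdeal V₀ := by
  classical
  let s := Algebra.EssFiniteType.finset A L
  let s' := s.image fun z => if z ∈ V₀ then z else z⁻¹
  let C := Algebra.adjoin A (s' : Set L)
  haveI : Algebra.FiniteType A C := ⟨(Subalgebra.fg_top C).2 ⟨s', rfl⟩⟩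
  have hCV : ∀ x ∈ C, x ∈ V₀ := by
    intro x hx
    induction hx using Algebra.adjoin_induction with
    | mem z hz =>
      obtain ⟨w, -, rfl⟩ := Finset.mem_image.1 hz
      split_ifs with h
      · exact h
      · exact (V₀.mem_or_inv_mem w).resolve_left h
    | algebraMap a => exact hV₀ a
    | add x y _ _ hx hy => exact V₀.add_mem x y hx hy
    | mul x y _ _ hx hy => exact V₀.mul_mem x y hx hy
  -- `L` is the fraction field of `C`
  have hfrac : ∀ x : L, ∃ a b : C, (b : L) ≠ 0 ∧ x * b = a := by
    have hF : ∀ x ∈ Algebra.adjoin A (s : Set L), ∃ a b : C, (b : L) ≠ 0 ∧ x * b = a := by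
      intro x hx
      induction hx using Algebra.adjoin_induction with
      | mem z hz =>
        rcases em (z ∈ V₀) with h | h
        · exact ⟨⟨z, Algebra.subset_adjoin (Finset.mem_image.2 ⟨z, hz, if_pos h⟩)⟩, 1, one_ne_zero, mul_one z⟩
        · have hz0 : z ≠ 0 := fun h0 => h (h0 ▸ V₀.zero_mem)
          exact ⟨1, ⟨z⁻¹, Algebra.subset_adjoin (Finset.mem_image.2 ⟨z, hz, if_neg h⟩)⟩, inv_ne_zero hz0,
            mul_inv_cancel₀ hz0⟩
      | algebraMap a => exact ⟨algebraMap A C a, 1, one_ne_zero, mul_one _⟩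
      | add x y _ _ hx hy =>
        obtain ⟨a, b, hb, hab⟩ := hx
        obtain ⟨c, d, hd, hcd⟩ := hy
        exact ⟨a * d + c * b, b * d, mul_ne_zero hb hd, by push_cast; rw [← hab, ← hcd]; ring⟩
      | mul x y _ _ hx hy =>
        obtain ⟨a, b, hb, hab⟩ := hx
        obtain ⟨c, d, hd, hcd⟩ := hy
        exact ⟨a * c, b * d, mul_ne_zero hb hd, by push_cast; rw [← hab, ← hcd]; ring⟩
    intro x
    obtain ⟨⟨⟨c, hc⟩, ⟨⟨d, hd⟩, hdu⟩⟩, h⟩ := IsLocalization.surj (Algebra.EssFiniteType.submonoid A L) x
    have hd0 : d ≠ 0 := by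
      have h' : IsUnit d := hdu
      exact h'.ne_zero
    have hxd : x * d = c := h
    obtain ⟨a, b, hb, hab⟩ := hF c hc
    obtain ⟨e, f, hf, hef⟩ := hF d hd
    have he : (e : L) ≠ 0 := by rw [← hef]; exact mul_ne_zero hd0 hf
    exact ⟨a * f, b * e, mul_ne_zero hb he, by push_cast; rw [← hab, ← hef, ← hxd]; ring⟩
  haveI : IsFractionRing C L := IsFractionRing.of_field _ _ fun z => by
    obtain ⟨a, b, hb, hab⟩ := hfrac z
    exact ⟨a, b, (div_eq_iff hb).2 hab.symm |>.symm⟩
  -- the centre
  let ι : C →+* V₀ := (algebraMap C L).codRestrict V₀.toSubring fun c => hCV c c.2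
  let 𝔮 : Ideal C := (maximalIdeal V₀).comap ι
  haveI : 𝔮.IsPrime := Ideal.IsPrime.comap _
  have hq0 : 𝔮 ≠ ⊥ := by
    intro h0
    refine IsDiscreteValuationRing.not_isField V₀ ⟨exists_pair_ne V₀, mul_comm, fun {a} ha => ?_⟩
    obtain ⟨n, d, hd, hnd⟩ := hfrac ((a : L)⁻¹)
    have hdu : IsUnit (ι d) := by
      rw [← IsLocalRing.notMem_maximalIdeal]
      intro hm
      have : d ∈ 𝔮 := hm
      rw [h0] at this
      exact hd (by rw [(Ideal.mem_bot).1 this]; rfl)
    obtain ⟨w, hw⟩ := hdu.exists_right_inv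
    refine ⟨ι n * w, Subtype.ext ?_⟩
    have hwL : (d : L) * (w : L) = 1 := congrArg Subtype.val hw
    have ha0 : (a : L) ≠ 0 := fun h => ha (Subtype.ext h)
    show (a : L) * ((n : L) * (w : L)) = 1
    rw [← hnd, mul_assoc, hwL, mul_one, mul_inv_cancel₀ ha0]
  let O := Localization.AtPrime 𝔮
  have hOf : ¬ IsField O := by
    intro h
    obtain ⟨c, hc, hc0⟩ := 𝔮.ne_bot_iff.1 hq0
    have h1 := (IsLocalization.AtPrime.to_map_mem_maximal_iff O 𝔮 c).2 hc
    rw [IsLocalRing.isField_iff_maximalIdeal_eq.1 h, Ideal.mem_bot] at h1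
    exact hc0 ((map_eq_zero_iff _ (IsLocalization.injective O 𝔮.primeCompl_le_nonZeroDivisors)).1 h1)
  haveI : IsDomain O := IsLocalization.isDomain_localization 𝔮.primeCompl_le_nonZeroDivisors
  have hOexc : EGA4.IsExcellent O :=
    CplFib6.isExcellent_localization (CplFib6.isExcellent_of_finiteType hA C) 𝔮.primeCompl O
  haveI : IsNoetherianRing O := hOexc.1
  letI : Algebra O L := (IsLocalization.lift (M := 𝔮.primeCompl) (g := algebraMap C L) fun y =>
    IsUnit.mk0 _ ((map_ne_zero_iff _ (IsFractionRing.injective C L)).2 fun h => y.2 (h ▸ 𝔮.zero_mem))).toAlgebra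
  haveI : IsScalarTower C O L := IsScalarTower.of_algebraMap_eq fun x =>
    (IsLocalization.lift_eq (M := 𝔮.primeCompl) (g := algebraMap C L) _ x).symm
  haveI : IsFractionRing O L := IsFractionRing.isFractionRing_of_isDomain_of_isLocalization 𝔮.primeCompl O L
  obtain ⟨W, _, _, _, _, _, _, hWfrac, hWess, hWloc⟩ := exists_dvr_of_local O hOexc hOf L
  let η : A →+* W := (algebraMap O W).comp ((algebraMap C O).comp (algebraMap A C))
  refine ⟨W, inferInstance, inferInstance, inferInstance, inferInstance, η, hWfrac, RingHom.ext fun a => ?_, ?_, fun a => ?_⟩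
  · show algebraMap W L (algebraMap O W (algebraMap C O (algebraMap A C a))) = _
    rw [← IsScalarTower.algebraMap_apply, ← IsScalarTower.algebraMap_apply]
    rfl
  · refine RingHom.EssFiniteType.comp (RingHom.EssFiniteType.comp ?_ ?_) ?_
    · exact RingHom.essFiniteType_algebraMap.2 (inferInstanceAs (Algebra.EssFiniteType A C))
    · exact RingHom.essFiniteType_algebraMap.2 (Algebra.EssFiniteType.of_isLocalization _ 𝔮.primeCompl)
    · exact RingHom.essFiniteType_algebraMap.2 hWess
  · rw [IsLocalRing.mem_maximalIdeal, IsLocalRing.mem_maximalIdeal]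
    show ¬ IsUnit (algebraMap O W (algebraMap C O (algebraMap A C a))) ↔ _
    haveI := hWloc
    rw [isUnit_map_iff, IsLocalization.AtPrime.isUnit_to_map_iff O 𝔮]
    exact not_not

end Groth.Agent.ValCrit6
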